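import Groth.Agent.Lib.HorizCart29.GG
import Groth.Agent.Lib.Cube.DivisorSection
import Groth.Agent.Lib.NefGrowth.IntNum
import Groth.Agent.Lib.StratVanish6.Main
import Groth.Agent.Lib.Cohom.Affine

/-!
# Powers of an effective Cartier divisor which is affine
-/

universe u

set_option backward.isDefEq.respectTransparency false
set_option linter.all false

open CategoryTheory CategoryTheory.Limits AlgebraicGeometry TopologicalSpace Opposite
open GrothLib.Ample (Cocycle)

noncomputable section

namespace GrothLib.HorizCart29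

variable {X : Scheme.{u}} (A : Type u) [CommRing A] [IsNoetherianRing A]
  [X.Over (Spec (CommRingCat.of A))] [IsProper (X ↘ Spec (CommRingCat.of A))]

include A in
/-- Multiples of an affine effective Cartier divisor are eventually globally generated. -/
theorem eventually_gg (D : X.IdealSheafData) (hI : _root_.BlowUp.IsEffCartierIdeal D) [IsAffine D.subscheme]
    (LD : X.Modules) (hLD : ClSub.IsInverseOf LD (ClSub.idealMod D)) :
    ∃ N : ℕ, ∀ m, N ≤ m → Curv2.IsGloballyGenerated (CohB1.tensorPow LD m) := by
  haveI := SerreVanish.isNoetherian_of_proper (X := X) A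
  have hD := GrothLib.IdealModSec.isInvertible_of_isEffCartier hI
  obtain ⟨c, a, hc, ha⟩ := GrothLib.Cube.hasSec_compl_support hI
  have hL : PicF.IsInvertible LD := (GrothLib.NefGrowth.cls_inverse hD hLD).1
  have hcl := GrothLib.Cube.clsMod_eq_inv_of_isInverseOf hL hD hLD
  obtain ⟨c', ⟨e'⟩⟩ := GrothLib.Ample.exists_cocycle hL
  have hcc : GrothLib.Cube.cls c' = GrothLib.Cube.cls c := by
    rw [hc, ← GrothLib.Cube.clsMod_eq hL e', hcl]
  obtain ⟨u⟩ := GrothLib.Cube.cls_eq_iff.1 hcc
  let e : LD ≅ c.twist 1 := e' ≪≫ u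
  have hfg : _root_.BlowUp.IsFiniteTypeIdeal D := fun U => by
    haveI : IsNoetherianRing Γ(X, U.1) := IsLocallyNoetherian.component_noetherian U
    exact IsNoetherian.noetherian _
  obtain ⟨N, hN⟩ := eventually_isGloballyGenerated c A a fun P hP hPs => by
    refine ⟨0, fun n _ i hi => ?_⟩
    haveI := hP.1
    haveI := c.isQuasicoherent_modTwist P n
    refine GrothLib.StratVanish6.subsingleton_HH_of_supported (A := A) (c.modTwist P n) D hfg (n := 0)
      (fun Q hQ p hp => ?_) (fun y hy => ?_) i hi
    · haveI := hQ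
      exact GrothLib.Cohom.subsingleton_HH_of_isAffine Q p hp
    · have h2 := hPs (GrothLib.SerreVanish.support_modTwist_subset c (M := P) n hy)
      rw [ha] at h2
      exact not_not.1 h2
  exact ⟨N, fun m hm => GrothLib.Ample.isGloballyGenerated_of_iso (c.nonempty_tensorPow_iso e m).some.symm (hN m hm)⟩

end GrothLib.HorizCart29
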