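import Groth.Agent.Lib.HorizCart29.Point
import Groth.Agent.Lib.HorizCart29.Powers
import Groth.Agent.Lib.Contract29.GGContraction
import Groth.Agent.Lib.Contract29.MinimalUnique
import Groth.Agent.Lib.Cube.Seesaw
import Groth.Agent.Lib.Cube.AmpleCrit
import Groth.Agent.Lib.HodgeIndex.Form
import Groth.Agent.Lib.ArSurf29.Constants
import Groth.Agent.Lib.ArSurf29.Points

/-!
# Contraction of vertical curves over a henselian discrete valuation ring
-/

set_option autoImplicit false
set_option linter.all false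
set_option backward.isDefEq.respectTransparency false

universe u

open CategoryTheory CategoryTheory.Limits AlgebraicGeometry TopologicalSpace

noncomputable section

namespace GrothLib.HorizCart29

open GrothLib.CartierDescent

theorem mem_support_prod_iff {X : Scheme.{u}} {ι : Type*} [DecidableEq ι] (T : Finset ι) (D : ι → X.IdealSheafData) (z : X) :
    z ∈ (∏ i ∈ T, D i).support ↔ ∃ i ∈ T, z ∈ (D i).support := by
  have h : ∀ J : X.IdealSheafData, z ∈ J.support ↔ GrothLib.DivPart.stalkHom z J ≠ ⊤ := fun J =>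
    ⟨fun hz htop => (stalkIdeal_eq_top_iff J z).1 htop hz,
      fun hne => by_contra fun hz => hne ((stalkIdeal_eq_top_iff J z).2 hz)⟩
  rw [h, map_prod]
  induction T using Finset.induction_on with
  | empty => simp [Ideal.one_eq_top]
  | insert a s ha ih =>
    rw [Finset.prod_insert ha]
    constructor
    · intro hne
      by_cases h1 : GrothLib.DivPart.stalkHom z (D a) = ⊤
      · rw [h1, Ideal.top_mul] at hne
        obtain ⟨i, hi, hz⟩ := ih.1 hne
        exact ⟨i, Finset.mem_insert_of_mem hi, hz⟩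
      · exact ⟨a, Finset.mem_insert_self a s, (h _).2 h1⟩
    · rintro ⟨i, hi, hz⟩ htop
      rcases Finset.mem_insert.1 hi with rfl | hi
      · exact (h _).1 hz (top_le_iff.1 (htop ▸ Ideal.mul_le_left))
      · exact ih.2 ⟨i, hi, hz⟩ (top_le_iff.1 (htop ▸ Ideal.mul_le_right))

variable {R : Type u} [CommRing R] [IsDomain R] [IsDiscreteValuationRing R] [HenselianLocalRing R]
  {X : Over (Spec (CommRingCat.of R))} [IsIntegral X.left] [IsProper X.hom] [Flat X.hom]

omit [HenselianLocalRing R] in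
theorem vertComp_generic (hdim : topologicalKrullDim X.left = 2) (E : ArSurf.VertComp R X) :
    GrothLib.ArSurf29.IsMaxPt (E.ι (genericPoint E.curve.left)) ∧
      ¬ IsClosed ({E.ι (genericPoint E.curve.left)} : Set X.left) ∧
      Set.range E.ι.base = closure {E.ι (genericPoint E.curve.left)} := by
  haveI : IsLocallyNoetherian X.left := LocallyOfFiniteType.isLocallyNoetherian X.hom
  haveI : CompactSpace X.left := QuasiCompact.compactSpace_of_compactSpace X.hom
  haveI : IsNoetherian X.left := ⟨⟩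
  have hmem : ∀ a, E.ι a ∈ Models.specialFibreSet R X := fun a => by
    show X.hom (E.ι a) = _
    rw [← Scheme.Hom.comp_apply, E.w, Scheme.Hom.comp_apply]
    exact (congrArg _ (Subsingleton.elim (α := PrimeSpectrum (IsLocalRing.ResidueField R)) _ _)).trans
      (IsLocalRing.comap_closedPoint (IsLocalRing.residue R))
  have hr : Set.range E.ι.base = closure {E.ι (genericPoint E.curve.left)} := by
    refine Set.Subset.antisymm ?_ (closure_minimal (Set.singleton_subset_iff.2 ⟨_, rfl⟩) E.ι.isClosedEmbedding.isClosed_range)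
    rintro _ ⟨a, rfl⟩
    exact specializes_iff_mem_closure.1 ((genericPoint_specializes a).map E.ι.continuous)
  have hnc : ¬ IsClosed ({E.ι (genericPoint E.curve.left)} : Set X.left) := fun hc => by
    rw [hc.closure_eq] at hr
    haveI : Subsingleton E.curve.left := ⟨fun a b => E.ι.isEmbedding.injective
      ((hr.le ⟨a, rfl⟩).trans (hr.le ⟨b, rfl⟩).symm)⟩
    exact absurd (E.dim_eq ▸ topologicalKrullDim_zero_of_discreteTopology E.curve.left) (by decide)
  refine ⟨⟨hmem _, fun y hy hys => ?_⟩, hnc, hr⟩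
  by_contra hne
  obtain ⟨c, hc, hcc⟩ := GrothLib.ArSurf29.exists_isClosed_specialization (E.ι (genericPoint E.curve.left))
  exact GrothLib.ArSurf29.no_chain_four hdim.le (genericPoint_specializes y) hys hc
    (fun e => GrothLib.ArSurf29.genericPoint_notMem_fibre' (e ▸ hy)) hne fun e => hnc (e ▸ hcc)

omit [HenselianLocalRing R] in
theorem range_eq_of_mem (hdim : topologicalKrullDim X.left = 2) (E E' : ArSurf.VertComp R X)
    (h : E.ι (genericPoint E.curve.left) ∈ Set.range E'.ι.base) : Set.range E.ι.base = Set.range E'.ι.base := by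
  obtain ⟨h1, -, hr⟩ := vertComp_generic hdim E
  obtain ⟨h1', -, hr'⟩ := vertComp_generic hdim E'
  rw [hr, hr', ← h1.2 _ h1'.1 (specializes_iff_mem_closure.2 (hr' ▸ h))]

theorem exists_contraction (hdim : topologicalKrullDim X.left = 2)
    (hnor : ∀ x : X.left, IsIntegrallyClosed (X.left.presheaf.stalk x))
    {r : ℕ} (Γ : Fin r → ArSurf.VertComp R X)
    (Γ' : ArSurf.VertComp R X) (hΓ' : ∀ i, Set.range Γ'.ι.base ≠ Set.range (Γ i).ι.base) :
    ∃ (Y : Over (Spec (CommRingCat.of R))) (f : X ⟶ Y),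
      IsIntegral Y.left ∧ (∀ q : Y.left, IsIntegrallyClosed (Y.left.presheaf.stalk q)) ∧
      topologicalKrullDim Y.left = 2 ∧ Flat Y.hom ∧ Neron.IsProjectiveOver R Y ∧
      (∀ i, ∃ y : Y.left, Set.range ((Γ i).ι ≫ f.left) = {y}) ∧
      f.left ⁻¹' (f.left '' ⋃ i, Set.range (Γ i).ι) = ⋃ i, Set.range (Γ i).ι ∧
      ∀ V : Y.left.Opens, (V : Set Y.left) ∩ f.left '' (⋃ i, Set.range (Γ i).ι) = ∅ →
        IsIso (f.left ∣_ V) := by
  classical
  haveI : IsLocallyNoetherian X.left := LocallyOfFiniteType.isLocallyNoetherian X.hom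
  haveI : CompactSpace X.left := QuasiCompact.compactSpace_of_compactSpace X.hom
  haveI : IsNoetherian X.left := ⟨⟩
  let G : Set X.left := ⋃ i, Set.range (Γ i).ι.base
  have hG : IsClosed G := isClosed_iUnion_of_finite fun i => (Γ i).ι.isClosedEmbedding.isClosed_range
  let T : Finset X.left := ((GrothLib.ArSurf29.finite_isMaxPt (X := X)).subset
    (show {z : X.left | GrothLib.ArSurf29.IsMaxPt z ∧ z ∉ G} ⊆ {z : X.left | GrothLib.ArSurf29.IsMaxPt z} from fun z hz => hz.1)).toFinset
  have hT : ∀ z, z ∈ T ↔ GrothLib.ArSurf29.IsMaxPt z ∧ z ∉ G := fun z => by simp [T]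
  have hpick : ∀ z ∈ T, ∃ x : X.left, x ∈ closure {z} ∧ x ∉ G ∧ IsClosed ({x} : Set X.left) := by
    intro z hz
    obtain ⟨hzm, hzG⟩ : GrothLib.ArSurf29.IsMaxPt z ∧ z ∉ G := (hT _).1 hz
    obtain ⟨E, η, hη, -, hzE, hr⟩ := GrothLib.ArSurf29.exists_vertComp_through (GrothLib.ArSurf29.dim_component hdim) hzm.1
    have hηz : η = z := hzm.2 η hη (specializes_iff_mem_closure.2 (hr ▸ hzE))
    subst hηz
    haveI := GrothLib.ArSurf29.isProper_curve E
    haveI : JacobsonSpace E.curve.left := LocallyOfFiniteType.jacobsonSpace (E.curve.left ↘ Spec (CommRingCat.of (IsLocalRing.ResidueField R)))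
    obtain ⟨a, ha⟩ := hzE
    obtain ⟨c, hcG, hcc⟩ := nonempty_inter_closedPoints (X := E.curve.left) (Z := E.ι ⁻¹' Gᶜ) ⟨a, show E.ι a ∉ G by rw [ha]; exact hzG⟩
      (hG.isOpen_compl.preimage E.ι.continuous).isLocallyClosed
    refine ⟨E.ι c, hr.le ⟨c, rfl⟩, hcG, ?_⟩
    rw [← Set.image_singleton]
    exact E.ι.isClosedEmbedding.isClosedMap _ hcc
  choose! xp hxp hxpG hxpc using hpick
  have hspec : ∀ z ∈ T, xp z ∈ Models.specialFibreSet R X := fun z hz =>
    closure_minimal (Set.singleton_subset_iff.2 ((hT _).1 hz).1.1)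
      (Models.isClosed_specialFibreSet R X) (hxp z hz)
  have hD' : ∀ z ∈ T, ∃ I : X.left.IdealSheafData, _root_.BlowUp.IsEffCartierIdeal I ∧
      (∀ p ∈ I.support, ∃ q ∈ I.support, q ⤳ p ∧ (X.hom q).asIdeal = ⊥) ∧
      (I.support : Set X.left) ∩ Models.specialFibreSet R X = {xp z} := by
    intro z hz
    obtain ⟨D, d, hd, hc, hh, hr⟩ := exists_horizontal_through X hdim (xp z) (hxpc z hz) (hspec z hz)
    have hs : (d.ker.support : Set X.left) = Set.range d.base := by
      rw [Scheme.Hom.support_ker, d.isClosedEmbedding.isClosed_range.closure_eq]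
    refine ⟨d.ker, hc, fun p hp => ?_, by rw [hs]; exact hr⟩
    obtain ⟨p', rfl⟩ := hs.le hp
    obtain ⟨q, hq, hq0⟩ := hh p'
    exact ⟨d q, hs.ge ⟨q, rfl⟩, hq.map d.continuous, hq0⟩
  choose! I hI hIhor hIs using hD'
  let D := ∏ z ∈ T, I z
  have hD : _root_.BlowUp.IsEffCartierIdeal D := by
    refine Finset.prod_induction (M := X.left.IdealSheafData) _ (fun J => _root_.BlowUp.IsEffCartierIdeal J)
      (fun a b ha hb => GrothLib.BlowUp.isEffCartierIdeal_mul ha hb) ?_ hI
    show _root_.BlowUp.IsEffCartierIdeal (1 : X.left.IdealSheafData)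
    rw [Scheme.IdealSheafData.one_eq_top]
    exact GrothLib.BlowUp.isEffCartierIdeal_top
  have hDs : ∀ p, p ∈ D.support ↔ ∃ z ∈ T, p ∈ (I z).support := fun p => mem_support_prod_iff T I p
  have hDspec : ∀ p ∈ D.support, p ∈ Models.specialFibreSet R X → p ∉ G ∧ IsClosed ({p} : Set X.left) := by
    intro p hp hps
    obtain ⟨z, hz, hpz⟩ := (hDs p).1 hp
    obtain rfl : p = xp z := (hIs z hz).le ⟨hpz, hps⟩
    exact ⟨hxpG z hz, hxpc z hz⟩
  have hmeet : ∀ E : ArSurf.VertComp R X, (∀ i, Set.range E.ι.base ≠ Set.range (Γ i).ι.base) →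
      ∃ a, E.ι a ∈ D.support := by
    intro E hE
    obtain ⟨hm, -, hr⟩ := vertComp_generic hdim E
    have hz : E.ι (genericPoint E.curve.left) ∈ T := (hT _).2 ⟨hm, fun h => by
      obtain ⟨i, hi⟩ := Set.mem_iUnion.1 h
      exact hE i (range_eq_of_mem hdim E (Γ i) hi)⟩
    obtain ⟨a, ha⟩ := hr.ge (hxp _ hz)
    exact ⟨a, (hDs _).2 ⟨_, hz, ha ▸ ((hIs _ hz).ge (Set.mem_singleton _)).1⟩⟩
  have hhor : ∀ p : D.subscheme, ∃ q : D.subscheme, q ⤳ p ∧ ((D.subschemeι ≫ X.hom).base q).asIdeal = ⊥ := by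
    intro p
    have hp : D.subschemeι p ∈ (D.support : Set X.left) := by rw [← D.range_subschemeι]; exact ⟨p, rfl⟩
    obtain ⟨z, hz, hpz⟩ := (hDs _).1 hp
    obtain ⟨q, hq, hqp, hq0⟩ := hIhor z hz _ hpz
    obtain ⟨q', rfl⟩ : q ∈ Set.range D.subschemeι.base := by rw [D.range_subschemeι]; exact (hDs _).2 ⟨z, hz, hq⟩
    exact ⟨q', D.subschemeι.isClosedEmbedding.isInducing.specializes_iff.1 hqp, hq0⟩
  haveI := isFinite_of_horizontal (IsDiscreteValuationRing.not_isField R) X hdim.le D.subschemeι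
    (by rw [Scheme.IdealSheafData.ker_subschemeι]; exact hD) hhor
  haveI : IsAffine D.subscheme := isAffine_of_isAffineHom (D.subschemeι ≫ X.hom)
  letI : X.left.Over (Spec (CommRingCat.of R)) := ⟨X.hom⟩
  haveI : IsProper (X.left ↘ Spec (CommRingCat.of R)) := inferInstanceAs (IsProper X.hom)
  have hDm := GrothLib.IdealModSec.isInvertible_of_isEffCartier hD
  let x₀ := (GrothLib.Cube.clsMod hDm)⁻¹
  let LD := GrothLib.HodgeIndex.rep x₀
  have hLD : PicF.IsInvertible LD := GrothLib.HodgeIndex.isInv_rep x₀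
  obtain ⟨N, hN⟩ := eventually_gg R D hD LD ((GrothLib.Cube.clsMod_eq_one_iff
    (GrothLib.Ample.isInvertible_tensorMod hLD hDm)).1 (by
      rw [GrothLib.Cube.clsMod_tensorMod hLD hDm, GrothLib.HodgeIndex.cls_rep, inv_mul_cancel]))
  let L := CohB1.tensorPow LD (N + 1)
  have hL : PicF.IsInvertible L := GrothLib.Ample.isInvertible_tensorPow hLD (N + 1)
  have hcls : GrothLib.Cube.clsMod hL = x₀ ^ (N + 1) := by
    rw [GrothLib.Cube.clsMod_tensorPow hLD, GrothLib.HodgeIndex.cls_rep]
  have hsec : GrothLib.Cube.HasSec (GrothLib.Cube.clsMod hL) ⟨(D.support : Set X.left)ᶜ, D.support.isClosed.isOpen_compl⟩ :=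
    hcls ▸ GrothLib.Cube.hasSec_pow (GrothLib.Cube.hasSec_compl_support hD) N
  obtain ⟨n, φ, hφ, hφL⟩ := GrothLib.Contract29.exists_map_of_gg X.hom hL (hN (N + 1) (by omega))
  haveI := GrothLib.Chow.isProper_toSpec n R
  haveI : IsProper (φ ≫ CohB1.ProjSpace.toSpec n R) := by rw [hφ]; infer_instance
  haveI : IsProper φ := IsProper.of_comp φ (CohB1.ProjSpace.toSpec n R)
  have hgen : ∀ x, ∃ z, (X.hom z).asIdeal = ⊥ ∧ φ z ≠ x := by
    intro x
    by_contra hall
    push Not at hall
    let pr : pullback X.hom (Neron.genPt R) ⟶ X.left := pullback.fst X.hom (Neron.genPt R)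
    have hz : ∀ w, (X.hom (pr w)).asIdeal = ⊥ := fun w => (GrothLib.ArSurf29.range_fst_genPt X.hom).le ⟨w, rfl⟩
    have h1 : GrothLib.Cube.pull pr (GrothLib.Cube.clsMod hL) = 1 := by
      rw [← hφL, GrothLib.Cube.pull_comp]
      exact GrothLib.Contract29.pull_eq_one_of_const (pr ≫ φ) (fun w => hall (pr w) (hz w)) _
    haveI := GrothLib.Contract29.isPreimmersion_genPt (R := R); haveI := GrothLib.Contract29.flat_genPt (R := R)
    obtain ⟨c, hc⟩ := (GrothLib.ArSurf29.range_fst_genPt X.hom).ge (GrothLib.ArSurf29.hom_genericPoint X.hom)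
    haveI : IsIntegral (pullback X.hom (Neron.genPt R)) :=
      GrothLib.Contract29.isIntegral_pullback_preimmersion (Neron.genPt R) ⟨pullback.snd X.hom (Neron.genPt R) c, by
        rw [← hc, ← Scheme.Hom.comp_apply, ← pullback.condition]; rfl⟩
    have hF : IsField Γ(pullback X.hom (Neron.genPt R), ⊤) :=
      isField_of_universallyClosed (K := FractionRing R) (pullback.snd X.hom (Neron.genPt R))
    have hs := GrothLib.Cube.hasSec_pull pr hsec
    rw [h1] at hs
    rcases GrothLib.Cube.eq_bot_or_top_of_isField hF hs with h | h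
    · have hgD : genericPoint X.left ∉ D.support := fun hm => by
        refine generic_notMem_range D.subschemeι (by rw [Scheme.IdealSheafData.ker_subschemeι]; exact hD) ?_
        rw [D.range_subschemeι]; exact hm
      have : c ∈ (⊥ : (pullback X.hom (Neron.genPt R)).Opens) := h ▸ (show pr c ∉ D.support by rw [hc]; exact hgD)
      exact this
    · obtain ⟨a, ha⟩ := hmeet Γ' hΓ'
      obtain ⟨z, hz', hpz⟩ := (hDs _).1 ha
      obtain ⟨q, hq, -, hq0⟩ := hIhor z hz' _ hpz
      obtain ⟨w, hw⟩ := (GrothLib.ArSurf29.range_fst_genPt X.hom).ge hq0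
      exact (h.ge (Set.mem_univ w) : pr w ∉ D.support) ((show pr w = q from hw) ▸ (hDs q).2 ⟨z, hz', hq⟩)
  refine GrothLib.Contract29.exists_contraction_of_map φ hφ hnor hdim hgen Γ fun E => ?_
  have htc := GrothLib.Contract29.trivial_iff_contracted E φ (GrothLib.Ample.isAmple_twistProjSpace_one n R) hL hφL
  have hE := GrothLib.Cube.hasSec_pull E.ι hsec
  constructor
  · intro hcon
    obtain ⟨e⟩ := htc.2 hcon
    have h1 : GrothLib.Cube.pull E.ι (GrothLib.Cube.clsMod hL) = 1 := by
      rw [← GrothLib.Cube.clsMod_pullback E.ι hL, GrothLib.Cube.clsMod_eq_one_iff]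
      exact ⟨e⟩
    rw [h1] at hE
    by_contra hne
    push Not at hne
    obtain ⟨hm, hnc, -⟩ := vertComp_generic hdim E
    rcases GrothLib.Cube.eq_bot_or_top_of_isField (GrothLib.ArSurf29.isField_constants E) hE with h | h
    · have : genericPoint E.curve.left ∈ (⊥ : E.curve.left.Opens) :=
        h ▸ (show E.ι (genericPoint E.curve.left) ∉ D.support from fun hp => hnc (hDspec _ hp hm.1).2)
      exact this
    · obtain ⟨a, ha⟩ := hmeet E hne
      exact (h.ge (Set.mem_univ a) : E.ι a ∉ D.support) ha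
  · rintro ⟨i, hi⟩
    refine htc.1 ?_
    obtain ⟨hm, -, hr⟩ := vertComp_generic hdim E
    have hdisj : ∀ a, E.ι a ∉ D.support := fun a ha => (hDspec _ ha
      (closure_minimal (Set.singleton_subset_iff.2 hm.1) (Models.isClosed_specialFibreSet R X) (hr.le ⟨a, rfl⟩))).1
      (Set.mem_iUnion.2 ⟨i, hi.le ⟨a, rfl⟩⟩)
    have h1 : GrothLib.Cube.pull E.ι (GrothLib.Cube.clsMod hL) = 1 := GrothLib.Cube.eq_one_of_hasSec_top
      ((show E.ι ⁻¹ᵁ (⟨(D.support : Set X.left)ᶜ, D.support.isClosed.isOpen_compl⟩ : X.left.Opens) = ⊤ from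
        top_le_iff.1 fun a _ => hdisj a) ▸ hE)
    rw [← GrothLib.Cube.clsMod_pullback E.ι hL, GrothLib.Cube.clsMod_eq_one_iff] at h1
    exact h1

end GrothLib.HorizCart29
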