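import Groth.Agent.Lib.HorizCart29.Horizontal
import Groth.Agent.Lib.EtLocal.HenselPart
import Groth.Agent.Lib.RelReg.Stalk
import Groth.Agent.Lib.ArSurf29.DegZero
import Groth.Agent.Lib.ArSurf29.FibreComponents
import Groth.Agent.Lib.ArSurf29.FactorBlowUp

/-!
# Horizontal Cartier divisors through a point over a henselian discrete valuation ring
-/

set_option autoImplicit false
set_option linter.all false
set_option backward.isDefEq.respectTransparency false

universe u

open CategoryTheory AlgebraicGeometry TopologicalSpace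

noncomputable section

namespace GrothLib.HorizCart29

open GrothLib.CartierDescent

theorem stalkIdeal_ker_eq {X D : Scheme.{u}} (d : D ⟶ X) [IsClosedImmersion d] (w : D) :
    stalkIdeal d.ker (d w) = RingHom.ker (d.stalkMap w).hom := by
  obtain ⟨V, hV, -⟩ := GrothLib.BlowUp.exists_affine_mem_le (W := (⊤ : X.Opens)) (x := d w) trivial
  rw [stalkIdeal_eq _ V hV, GrothLib.RelReg.ker_stalkMap_eq_map d V.2
    (MorphismProperty.of_isPullback (P := @IsClosedImmersion) (isPullback_morphismRestrict d V.1).flip ‹_›) w hV,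
    Scheme.Hom.ker_apply]

theorem ker_stalkMap_quotient {A : CommRingCat.{u}} (f : A) (p : Spec (CommRingCat.of (A ⧸ Ideal.span {f}))) :
    ∃ g, RingHom.ker ((Spec.map (CommRingCat.ofHom (Ideal.Quotient.mk (Ideal.span {f})))).stalkMap p).hom
      = Ideal.span {g} := by
  let q : Spec (CommRingCat.of (A ⧸ Ideal.span {f})) ⟶ Spec A := Spec.map (CommRingCat.ofHom (Ideal.Quotient.mk (Ideal.span {f})))
  haveI : IsClosedImmersion q := IsClosedImmersion.spec_of_surjective _ Ideal.Quotient.mk_surjective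
  let e := (Scheme.ΓSpecIso A).commRingCatIsoToRingEquiv
  have hk : RingHom.ker (q.app ⊤).hom = Ideal.span {e.symm f} := by
    ext a
    have hn : q.appTop ≫ (Scheme.ΓSpecIso _).hom =
        (Scheme.ΓSpecIso A).hom ≫ CommRingCat.ofHom (Ideal.Quotient.mk (Ideal.span {f})) := Scheme.ΓSpecIso_naturality _
    have hna : (Scheme.ΓSpecIso _).hom (q.appTop a) = Ideal.Quotient.mk (Ideal.span {f}) (e a) :=
      congrArg (fun φ => (φ.hom a)) hn
    rw [RingHom.mem_ker]
    constructor
    · intro h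
      have h1 : Ideal.Quotient.mk (Ideal.span {f}) (e a) = 0 := by
        rw [← hna, show q.appTop a = 0 from h, map_zero]
      obtain ⟨c, hc⟩ := Ideal.mem_span_singleton.1 (Ideal.Quotient.eq_zero_iff_mem.1 h1)
      refine Ideal.mem_span_singleton.2 ⟨e.symm c, ?_⟩
      rw [← map_mul, ← hc, RingEquiv.symm_apply_apply]
    · intro h
      obtain ⟨c, rfl⟩ := Ideal.mem_span_singleton.1 h
      refine ((Scheme.ΓSpecIso (CommRingCat.of (A ⧸ Ideal.span {f}))).commRingCatIsoToRingEquiv.map_eq_zero_iff).1 ?_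
      change (Scheme.ΓSpecIso _).hom (q.appTop (e.symm f * c)) = 0
      rw [hna, map_mul, RingEquiv.apply_symm_apply, map_mul, Ideal.Quotient.eq_zero_iff_mem.2
        (Ideal.mem_span_singleton_self f), zero_mul]
  refine ⟨(Spec A).presheaf.germ ⊤ (q p) trivial (e.symm f), ?_⟩
  rw [GrothLib.RelReg.ker_stalkMap_eq_map q (isAffineOpen_top _)
    (MorphismProperty.of_isPullback (P := @IsClosedImmersion) (isPullback_morphismRestrict q ⊤).flip ‹_›) p trivial,
    hk, Ideal.map_span, Set.image_singleton]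
  rfl

theorem ker_comp_principal {A B C E : Scheme.{u}} (o : A ⟶ B) (q : B ⟶ C) (F : C ⟶ E) [IsOpenImmersion o]
    [IsOpenImmersion F] (w : A) {g : C.presheaf.stalk (q (o w))}
    (hg : RingHom.ker (q.stalkMap (o w)).hom = Ideal.span {g}) :
    ∃ γ, RingHom.ker ((o ≫ q ≫ F).stalkMap w).hom = Ideal.span {γ} := by
  let e : E.presheaf.stalk ((o ≫ q ≫ F) w) ≃+* C.presheaf.stalk (q (o w)) :=
    (asIso (F.stalkMap (q (o w)))).commRingCatIsoToRingEquiv
  have hd : ∀ a, ((o ≫ q ≫ F).stalkMap w).hom a = (o.stalkMap w).hom ((q.stalkMap (o w)).hom (e a)) := fun a => by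
    rw [Scheme.Hom.stalkMap_comp, Scheme.Hom.stalkMap_comp]; rfl
  have ho : Function.Injective (o.stalkMap w).hom := (ConcreteCategory.bijective_of_isIso (o.stalkMap w)).1
  refine ⟨e.symm g, ?_⟩
  ext a
  rw [RingHom.mem_ker, hd a]
  constructor
  · intro ha
    have h1 : e a ∈ RingHom.ker (q.stalkMap (o w)).hom := ho (by rw [map_zero]; exact ha)
    rw [hg] at h1
    obtain ⟨c, hc⟩ := Ideal.mem_span_singleton.1 h1
    exact Ideal.mem_span_singleton.2 ⟨e.symm c, e.injective (by rw [map_mul, RingEquiv.apply_symm_apply, RingEquiv.apply_symm_apply, hc])⟩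
  · intro ha
    obtain ⟨c, rfl⟩ := Ideal.mem_span_singleton.1 ha
    have h1 : e (e.symm g * c) ∈ RingHom.ker (q.stalkMap (o w)).hom := by
      rw [hg, map_mul, RingEquiv.apply_symm_apply]
      exact Ideal.mul_mem_right _ _ (Ideal.mem_span_singleton_self _)
    rw [RingHom.mem_ker.1 h1, map_zero]

variable {R : Type u} [CommRing R] [IsDomain R] [IsDiscreteValuationRing R] [HenselianLocalRing R]
  (X : Over (Spec (CommRingCat.of R))) [IsIntegral X.left] [IsProper X.hom] [Flat X.hom]
  (hdim : topologicalKrullDim X.left = 2)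

include hdim

theorem exists_horizontal_through (x : X.left) (hx : IsClosed ({x} : Set X.left))
    (hxs : x ∈ Models.specialFibreSet R X) :
    ∃ (D : Scheme.{u}) (d : D ⟶ X.left), IsClosedImmersion d ∧ _root_.BlowUp.IsEffCartierIdeal d.ker ∧
      (∀ p : D, ∃ q : D, q ⤳ p ∧ ((d ≫ X.hom).base q).asIdeal = ⊥) ∧
      Set.range d.base ∩ Models.specialFibreSet R X = {x} := by
  classical
  haveI : IsLocallyNoetherian X.left := LocallyOfFiniteType.isLocallyNoetherian X.hom
  haveI : CompactSpace X.left := QuasiCompact.compactSpace_of_compactSpace X.hom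
  haveI : IsNoetherian X.left := ⟨⟩
  obtain ⟨⟨U, hU⟩, hxU, -⟩ := GrothLib.BlowUp.exists_affine_mem_le (W := (⊤ : X.left.Opens)) (x := x) trivial
  haveI : Nonempty U := ⟨⟨x, hxU⟩⟩
  haveI : IsNoetherianRing Γ(X.left, U) := IsLocallyNoetherian.component_noetherian ⟨U, hU⟩
  obtain ⟨π, hπ⟩ := IsDiscreteValuationRing.exists_irreducible R
  obtain ⟨φ, hφ⟩ := Spec.map_surjective (hU.fromSpec ≫ X.hom)
  have hbase : ∀ p : Spec Γ(X.left, U), (X.hom (hU.fromSpec p)).asIdeal = p.asIdeal.comap φ.hom := fun p => by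
    rw [← Scheme.Hom.comp_apply, ← hφ]; rfl
  have hsp : ∀ p : Spec Γ(X.left, U), hU.fromSpec p ∈ Models.specialFibreSet R X ↔ φ π ∈ p.asIdeal := fun p => by
    constructor
    · intro h
      have : π ∈ p.asIdeal.comap φ.hom := by
        rw [← hbase p, show X.hom (hU.fromSpec p) = IsLocalRing.closedPoint R from h]
        exact (IsLocalRing.mem_maximalIdeal π).2 hπ.not_isUnit
      exact this
    · intro h
      refine PrimeSpectrum.ext ?_
      change (X.hom (hU.fromSpec p)).asIdeal = IsLocalRing.maximalIdeal R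
      refine (IsLocalRing.maximalIdeal.isMaximal R).eq_of_le ?_ ?_ |>.symm
      · exact (X.hom (hU.fromSpec p)).isPrime.ne_top
      · rw [hπ.maximalIdeal_eq, Ideal.span_singleton_le_iff_mem, hbase]
        exact h
  have hgen : hU.fromSpec (⊥ : PrimeSpectrum Γ(X.left, U)) = genericPoint X.left := by
    obtain ⟨η, hη⟩ : genericPoint X.left ∈ Set.range hU.fromSpec := hU.range_fromSpec.ge
      ((genericPoint_specializes x).mem_open U.2 hxU)
    have h := ((PrimeSpectrum.le_iff_specializes (⊥ : PrimeSpectrum Γ(X.left, U)) η).1 bot_le).map hU.fromSpec.continuous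
    rw [hη] at h
    exact (h.antisymm (genericPoint_specializes _)).eq
  have hπ0 : φ π ≠ 0 := fun h0 => by
    have := (hsp (⊥ : PrimeSpectrum Γ(X.left, U))).2 (by rw [h0]; exact Ideal.zero_mem _)
    rw [hgen] at this
    exact GrothLib.ArSurf29.genericPoint_notMem_fibre' this
  obtain ⟨P, hP⟩ : x ∈ Set.range hU.fromSpec := hU.range_fromSpec.ge hxU
  have hPπ : φ π ∈ P.asIdeal := (hsp P).1 (by rw [hP]; exact hxs)
  -- P is not minimal over π
  have hPmin : P.asIdeal ∉ (Ideal.span {φ π}).minimalPrimes := by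
    intro hmin
    obtain ⟨E, η, hη, -, hxE, hr⟩ := GrothLib.ArSurf29.exists_vertComp_through (GrothLib.ArSurf29.dim_component hdim) hxs
    have hηx : η ⤳ x := specializes_iff_mem_closure.2 (hr ▸ hxE)
    have hne : η ≠ x := by
      rintro rfl
      rw [hx.closure_eq] at hr
      haveI : Subsingleton E.curve.left := ⟨fun a b => E.ι.isEmbedding.injective
        ((hr.le ⟨a, rfl⟩).trans (hr.le ⟨b, rfl⟩).symm)⟩
      have h0 := E.dim_eq ▸ topologicalKrullDim_zero_of_discreteTopology E.curve.left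
      exact absurd h0 (by decide)
    obtain ⟨q, hq⟩ : η ∈ Set.range hU.fromSpec := hU.range_fromSpec.ge (hηx.mem_open U.2 hxU)
    have hle : q.asIdeal ≤ P.asIdeal := (PrimeSpectrum.le_iff_specializes q P).2
      (hU.fromSpec.isOpenEmbedding.isEmbedding.isInducing.specializes_iff.1 (by rw [hq, hP]; exact hηx))
    have heq := le_antisymm hle (hmin.2 ⟨q.isPrime, (Ideal.span_singleton_le_iff_mem _).2 ((hsp q).1 (by rw [hq]; exact hη))⟩ hle)
    exact hne (by rw [← hq, ← hP, PrimeSpectrum.ext heq])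
  -- choose f
  obtain ⟨S, hS⟩ := Ideal.finite_minimalPrimes_of_isNoetherianRing Γ(X.left, U) (Ideal.span {φ π}) |>.exists_finset_coe
  have havoid : ¬ ((P.asIdeal : Set Γ(X.left, U)) ⊆ ⋃ q ∈ (S : Set (Ideal Γ(X.left, U))), (q : Set Γ(X.left, U))) := fun h => by
    obtain ⟨q, hq, hPq⟩ := (Ideal.subset_union_prime (R := Γ(X.left, U)) (s := S) (f := fun q => q) ⊥ ⊥
      (fun q hq _ _ => (show q ∈ (Ideal.span {φ π}).minimalPrimes from hS ▸ hq).1.1)).1 h
    have hq' : q ∈ (Ideal.span {φ π}).minimalPrimes := hS ▸ hq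
    exact hPmin (le_antisymm hPq (hq'.2 ⟨P.isPrime, (Ideal.span_singleton_le_iff_mem _).2 hPπ⟩ hPq) ▸ hq')
  obtain ⟨f, hfP, hf⟩ := Set.not_subset.1 havoid
  have hfmin : ∀ q ∈ (Ideal.span {φ π}).minimalPrimes, f ∉ q := fun q hq hfq =>
    hf (Set.mem_iUnion₂.2 ⟨q, hS.symm ▸ hq, hfq⟩)
  have hf0 : f ≠ 0 := fun h => by
    obtain ⟨q, hq, -⟩ := Ideal.exists_minimalPrimes_le ((Ideal.span_singleton_le_iff_mem P.asIdeal).2 hPπ)
    exact hfmin q hq (h ▸ Ideal.zero_mem q)
  -- the closed subscheme of U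
  let q0 : Spec (CommRingCat.of (Γ(X.left, U) ⧸ Ideal.span {f})) ⟶ Spec Γ(X.left, U) :=
    Spec.map (CommRingCat.ofHom (Ideal.Quotient.mk (Ideal.span {f})))
  haveI : IsClosedImmersion q0 := IsClosedImmersion.spec_of_surjective _ Ideal.Quotient.mk_surjective
  let t := q0 ≫ hU.fromSpec
  let ts := t ≫ X.hom
  have hfmem : ∀ p, f ∈ (q0 p).asIdeal := fun p => by
    change Ideal.Quotient.mk (Ideal.span {f}) f ∈ p.asIdeal
    rw [Ideal.Quotient.eq_zero_iff_mem.2 (Ideal.mem_span_singleton_self f)]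
    exact p.asIdeal.zero_mem
  have hngen : ∀ p, genericPoint X.left ≠ t p := fun p e => by
    have : q0 p = (⊥ : PrimeSpectrum Γ(X.left, U)) :=
      hU.fromSpec.isOpenEmbedding.injective (show t p = _ by rw [← e, hgen])
    exact hf0 (by simpa [this] using hfmem p)
  have htinj : Function.Injective t := hU.fromSpec.isOpenEmbedding.injective.comp q0.isClosedEmbedding.injective
  have hcl : ∀ a b, t a ∈ Models.specialFibreSet R X → a ⤳ b → a = b := by
    intro a b ha hab
    by_contra hne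
    obtain ⟨q, hq, hqle⟩ := Ideal.exists_minimalPrimes_le ((Ideal.span_singleton_le_iff_mem (q0 a).asIdeal).2 ((hsp (q0 a)).1 ha))
    let Q : PrimeSpectrum Γ(X.left, U) := ⟨q, hq.1.1⟩
    refine GrothLib.ArSurf29.no_chain_four hdim.le (genericPoint_specializes (hU.fromSpec Q))
      (((PrimeSpectrum.le_iff_specializes Q (q0 a)).1 hqle).map hU.fromSpec.continuous) (hab.map t.continuous) ?_ ?_
      (fun e => hne (htinj e))
    · intro e
      rw [← hgen] at e
      have h2 : Q = ⊥ := (hU.fromSpec.isOpenEmbedding.injective e).symm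
      have h3 : φ π ∈ Q.asIdeal := (Ideal.span_singleton_le_iff_mem _).1 hq.1.2
      rw [h2] at h3
      exact hπ0 h3
    · intro e
      exact hfmin q hq ((congrArg PrimeSpectrum.asIdeal (show Q = q0 a from hU.fromSpec.isOpenEmbedding.injective e)).ge (hfmem a))
  have hSc : IsClosed (t ⁻¹' Models.specialFibreSet R X) := (Models.isClosed_specialFibreSet R X).preimage t.continuous
  have hSfin : (t ⁻¹' Models.specialFibreSet R X).Finite := finite_of_pairwise hSc fun a ha b _ h => hcl a b ha h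
  obtain ⟨p0, hp0⟩ : ∃ p0, q0 p0 = P := by
    have : P ∈ PrimeSpectrum.zeroLocus (Ideal.span {f} : Set Γ(X.left, U)) :=
      (Ideal.span_singleton_le_iff_mem P.asIdeal).2 hfP
    exact (range_comap_of_surjective _ (Ideal.Quotient.mk (Ideal.span {f})) Ideal.Quotient.mk_surjective).ge (by rwa [Ideal.mk_ker])
  have htp0 : t p0 = x := by rw [show t p0 = hU.fromSpec (q0 p0) from rfl, hp0, hP]
  let Bad := (t ⁻¹' Models.specialFibreSet R X) \ {p0}
  have hBad : IsClosed Bad := by
    have hF : Bad.Finite := hSfin.subset Set.diff_subset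
    rw [← Set.biUnion_of_singleton Bad]
    refine hF.isClosed_biUnion fun a ha => ?_
    refine isClosed_of_closure_subset fun b hb => ?_
    exact (hcl a b ha.1 (specializes_iff_mem_closure.2 hb)).symm
  let TU : (Spec (CommRingCat.of (Γ(X.left, U) ⧸ Ideal.span {f}))).Opens := ⟨Badᶜ, hBad.isOpen_compl⟩
  let g := TU.ι ≫ ts
  haveI : IsLocallyNoetherian (Spec (CommRingCat.of (Γ(X.left, U) ⧸ Ideal.span {f}))) :=
    LocallyOfFiniteType.isLocallyNoetherian ts
  haveI : IsNoetherian (Spec (CommRingCat.of (Γ(X.left, U) ⧸ Ideal.span {f}))) := ⟨⟩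
  haveI : CompactSpace (TU : Scheme.{u}) := isCompact_iff_compactSpace.1 (NoetherianSpace.isCompact _)
  haveI : IsNoetherian (TU : Scheme.{u}) := ⟨⟩
  haveI : QuasiCompact g := inferInstance
  have hspecU : ∀ p : (TU : Scheme.{u}), g p = IsLocalRing.closedPoint R → TU.ι p = p0 := fun p hp => by
    by_contra hne
    exact p.2 ⟨hp, hne⟩
  have hR : ¬ IsField R := IsDiscreteValuationRing.not_isField R
  haveI : LocallyQuasiFinite g := by
    refine LocallyQuasiFinite.of_finite_preimage_singleton _ fun s => ?_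
    by_cases hs : s.asIdeal = ⊥
    · obtain ⟨Z, hZ, hZcl, hZirr, hcov⟩ := NoetherianSpace.exists_finite_set_isClosed_irreducible
        (isClosed_univ (X := (TU : Scheme.{u})))
      choose ζ hζ using fun E : Z => QuasiSober.sober (hZirr E E.2) (hZcl E E.2)
      haveI := hZ.to_subtype
      refine (Set.finite_range ζ).subset fun y hy => ?_
      obtain ⟨E, hE, hyE⟩ := (hcov ▸ Set.mem_univ y : y ∈ ⋃₀ Z)
      refine ⟨⟨E, hE⟩, ?_⟩
      have hsp' := ((hζ ⟨E, hE⟩).specializes hyE).map TU.ι.continuous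
      apply TU.ι.isOpenEmbedding.injective
      by_contra hne
      obtain ⟨c, hc, hcc⟩ := GrothLib.ArSurf29.exists_isClosed_specialization (t (TU.ι y))
      refine GrothLib.ArSurf29.no_chain_four hdim.le (genericPoint_specializes _) (hsp'.map t.continuous) hc
        (hngen _) (fun e => hne (htinj e)) fun e => not_isClosed_bot hR hs ?_
      have h1 := X.hom.isClosedMap _ (e ▸ hcc : IsClosed ({t (TU.ι y)} : Set X.left))
      rw [Set.image_singleton] at h1
      rw [← (show g y = s from hy)]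
      exact h1
    · refine (Set.finite_singleton p0).preimage TU.ι.isOpenEmbedding.injective.injOn |>.subset fun y hy => hspecU y ?_
      rw [show g y = s from hy]
      exact PrimeSpectrum.ext (((IsLocalRing.isMaximal_iff R).1 (Ideal.IsPrime.isMaximal s.isPrime hs)))
  obtain ⟨W, ⟨hWc, hWf, hW⟩, -⟩ := GrothLib.EtLocal.existsUnique_isFinitePart g
  let o := W.ι ≫ TU.ι
  let d : (W : Scheme.{u}) ⟶ X.left := o ≫ t
  have hd : d ≫ X.hom = W.ι ≫ g := by simp only [d, o, g, ts, Category.assoc]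
  haveI : IsProper (d ≫ X.hom) := by rw [hd]; haveI := hWf; infer_instance
  haveI : IsProper d := IsProper.of_comp d X.hom
  haveI : IsClosedImmersion d := (IsClosedImmersion.iff_isProper_and_mono d).2 ⟨inferInstance, inferInstance⟩
  have hp0T : p0 ∈ TU := fun h => h.2 rfl
  have hg0 : g ⟨p0, hp0T⟩ = IsLocalRing.closedPoint R := by
    change X.hom (t p0) = _
    rw [htp0]; exact hxs
  have hrange : Set.range d.base ∩ Models.specialFibreSet R X = {x} := by
    refine Set.Subset.antisymm ?_ ?_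
    · rintro _ ⟨⟨w, rfl⟩, hw⟩
      rw [Set.mem_singleton_iff]
      change t (TU.ι (W.ι w)) = x
      rw [hspecU (W.ι w) hw, htp0]
    · rintro _ rfl
      exact ⟨⟨⟨⟨p0, hp0T⟩, hW _ hg0⟩, htp0⟩, hxs⟩
  have hhor : ∀ p : (W : Scheme.{u}), ∃ q : (W : Scheme.{u}), q ⤳ p ∧ ((d ≫ X.hom) q).asIdeal = ⊥ := by
    intro p
    by_cases hb : ((d ≫ X.hom) p).asIdeal = ⊥
    · exact ⟨p, specializes_rfl, hb⟩
    have hs : g (W.ι p) = IsLocalRing.closedPoint R := by
      rw [← Scheme.Hom.comp_apply, ← hd]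
      exact PrimeSpectrum.ext ((IsLocalRing.isMaximal_iff R).1 (Ideal.IsPrime.isMaximal ((d ≫ X.hom) p).isPrime hb))
    have hp : TU.ι (W.ι p) = p0 := hspecU _ hs
    obtain ⟨q, hq, hqle⟩ := Ideal.exists_minimalPrimes_le ((Ideal.span_singleton_le_iff_mem P.asIdeal).2 hfP)
    haveI := hq.1.1
    have hh : q.height ≤ 1 := Ideal.height_le_one_of_isPrincipal_of_mem_minimalPrimes _ q hq
    have hfq : f ∈ q := (Ideal.span_singleton_le_iff_mem _).1 hq.1.2
    have hπq : φ π ∉ q := by
      intro hπq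
      obtain ⟨r, hr, hrle⟩ := Ideal.exists_minimalPrimes_le ((Ideal.span_singleton_le_iff_mem q).2 hπq)
      haveI := hr.1.1
      have hlt : r < q := lt_of_le_of_ne hrle fun e => hfmin r hr (e ▸ hfq)
      have hlt0 : (⊥ : Ideal Γ(X.left, U)) < r := bot_lt_iff_ne_bot.2 fun e => hπ0 (by
        have := (Ideal.span_singleton_le_iff_mem r).1 hr.1.2
        rwa [e] at this)
      have h1 : r.height < q.height := Ideal.height_strict_mono_of_isPrime hlt
      have h0 : (⊥ : Ideal Γ(X.left, U)).height < r.height := Ideal.height_strict_mono_of_isPrime hlt0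
      have h2 := (ENat.add_one_le_iff (ne_top_of_lt h0)).2 h0
      have h3 : r.height = 0 := Order.lt_one_iff.1 (h1.trans_le hh)
      rw [h3] at h0
      exact not_lt_zero' h0
    obtain ⟨q', hq'⟩ : ∃ q', q0 q' = (⟨q, hq.1.1⟩ : PrimeSpectrum Γ(X.left, U)) := by
      have : (⟨q, hq.1.1⟩ : PrimeSpectrum Γ(X.left, U)) ∈ PrimeSpectrum.zeroLocus (Ideal.span {f} : Set Γ(X.left, U)) := hq.1.2
      exact (range_comap_of_surjective _ (Ideal.Quotient.mk (Ideal.span {f})) Ideal.Quotient.mk_surjective).ge (by rwa [Ideal.mk_ker])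
    have hqp : q' ⤳ p0 := q0.isClosedEmbedding.isInducing.specializes_iff.1
      ((PrimeSpectrum.le_iff_specializes (q0 q') (q0 p0)).1 (by rw [hq', hp0]; exact hqle))
    have hqT : q' ∈ TU := hqp.mem_open TU.2 hp0T
    have hqs : (⟨q', hqT⟩ : (TU : Scheme.{u})) ⤳ W.ι p :=
      TU.ι.isOpenEmbedding.isInducing.specializes_iff.1 (by rw [hp]; exact hqp)
    have hqW : (⟨q', hqT⟩ : (TU : Scheme.{u})) ∈ W := hqs.mem_open W.2 p.2
    refine ⟨⟨⟨q', hqT⟩, hqW⟩, W.ι.isOpenEmbedding.isInducing.specializes_iff.1 hqs, ?_⟩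
    by_contra hne
    have h4 : t q' ∈ Models.specialFibreSet R X :=
      PrimeSpectrum.ext ((IsLocalRing.isMaximal_iff R).1 (Ideal.IsPrime.isMaximal (X.hom (t q')).isPrime hne))
    exact hπq (by have h5 := (hsp (q0 q')).1 h4; rwa [hq'] at h5)
  refine ⟨_, d, inferInstance, ?_, hhor, hrange⟩
  have hgnot : genericPoint X.left ∉ Set.range d.base := by
    rintro ⟨w, hw⟩
    exact hngen (o w) hw.symm
  refine GrothLib.ArSurf29.isEffCartierIdeal_of_stalks _ fun y => ?_
  by_cases hy : y ∈ Set.range d.base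
  · obtain ⟨w, rfl⟩ := hy
    obtain ⟨γ, hγ⟩ : ∃ γ, RingHom.ker (d.stalkMap w).hom = Ideal.span {γ} := by
      obtain ⟨g0, hg0⟩ := ker_stalkMap_quotient f (o w)
      exact ker_comp_principal o q0 hU.fromSpec w hg0
    refine ⟨γ, fun h0 => ?_, (stalkIdeal_ker_eq d w).trans hγ⟩
    have h := stalkIdeal_map_specializes d.ker (genericPoint_specializes (d w))
    rw [stalkIdeal_ker_eq d w, hγ, h0, Ideal.span_singleton_eq_bot.2 rfl, Ideal.map_bot,
      (stalkIdeal_eq_top_iff _ _).2 (by
        rw [← SetLike.mem_coe, Scheme.Hom.support_ker, d.isClosedEmbedding.isClosed_range.closure_eq]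
        exact hgnot)] at h
    exact bot_ne_top h
  · refine ⟨1, one_ne_zero, ?_⟩
    rw [Ideal.span_singleton_one, stalkIdeal_eq_top_iff, ← SetLike.mem_coe, Scheme.Hom.support_ker,
      d.isClosedEmbedding.isClosed_range.closure_eq]
    exact hy

end GrothLib.HorizCart29
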