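import Groth.Agent.Lib.Semiample.Effective
import Groth.Agent.Lib.SerreVanish.Ample
import Groth.Agent.Lib.ProjCoh.Finite

/-!
# Global generation from an effective divisor over a Noetherian base
-/

universe u

set_option backward.isDefEq.respectTransparency false
set_option linter.all false

open CategoryTheory CategoryTheory.Limits AlgebraicGeometry TopologicalSpace Opposite
open GrothLib.InvExt (mres)
open GrothLib.Ample (Cocycle res)
open GrothLib.SerreVanish (EvAcyclic twistSeq twistSeq_shortExact)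
open GrothLib.Semiample (app_eq_zero_of_disjoint mraiseHom_push_eq_zero mtwistMap_mraiseHom)

noncomputable section

namespace GrothLib.HorizCart29

variable {X : Scheme.{u}} (c : Cocycle X) (A : Type u) [CommRing A] [IsNoetherianRing A]
  [X.Over (Spec (CommRingCat.of A))] [IsProper (X ↘ Spec (CommRingCat.of A))]

include A in
/-- Multiplication by a section is injective on first cohomology in all large degrees. -/
theorem eventually_injective_mraise {M : X.Modules} (hM : Coh.IsCoh M) (s : c.sect 1 ⊤)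
    (hsmall : ∀ P : X.Modules, Coh.IsCoh P → CohB1.support P ⊆ (c.locus s : Set X)ᶜ → EvAcyclic c P) :
    ∃ n₀, ∀ n, n₀ ≤ n → Function.Injective (Cohom.hhMap A (c.mraiseHom M s n 1) 1) := by
  haveI := SerreVanish.isNoetherian_of_proper (X := X) A
  obtain ⟨n₁, hn₁⟩ := Nakai.exists_surjective_hhMap c A hM s hsmall
  haveI : Module.Finite A (Coh.HH X (c.modTwist M n₁) 1) :=
    ProjCoh.moduleFinite_HH A _ (Euler.isCoh_modTwist c hM n₁) 1
  haveI : IsNoetherian A (Coh.HH X (c.modTwist M n₁) 1) := isNoetherian_of_isNoetherianRing_of_finite A _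
  let ψ : ∀ N : ℕ, Coh.HH X (c.modTwist M n₁) 1 →ₗ[A] Coh.HH X (c.modTwist M (n₁ + N)) 1 := fun N =>
    N.rec LinearMap.id fun N φ => (Cohom.hhMap A (c.mraiseHom M s (n₁ + N) 1) 1).comp φ
  have hψ : ∀ N, Function.Surjective (ψ N) := fun N => by
    induction N with
    | zero => exact Function.surjective_id
    | succ N ih => exact (hn₁ (n₁ + N) (by omega) 1).comp ih
  obtain ⟨N₀, hN₀⟩ := (monotone_stabilizes_iff_noetherian (R := A)).2 inferInstance
    ⟨fun N => LinearMap.ker (ψ N), monotone_nat_of_le_succ fun N x hx => by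
      show Cohom.hhMap A (c.mraiseHom M s (n₁ + N) 1) 1 (ψ N x) = 0
      rw [LinearMap.mem_ker.1 hx, map_zero]⟩
  refine ⟨n₁ + N₀, fun n hn => ?_⟩
  obtain ⟨N, rfl⟩ : ∃ N, n = n₁ + N := ⟨n - n₁, by omega⟩
  rw [injective_iff_map_eq_zero]
  intro x hx
  obtain ⟨y, rfl⟩ := hψ N x
  have h1 : y ∈ LinearMap.ker (ψ (N + 1)) := hx
  have e1 := hN₀ N (by omega)
  have e2 := hN₀ (N + 1) (by omega)
  simp only [OrderHom.coe_mk] at e1 e2
  rw [← e2, e1] at h1
  exact h1

include A in
/-- Injectivity on the first cohomology gives a section not vanishing at a point of the zero locus. -/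
theorem exists_sect_of_injective {m : ℕ} (s : c.sect m ⊤) {x : X} (hx : IsClosed ({x} : Set X))
    (hxs : x ∉ c.locus s) {n : ℕ}
    (hinj : Function.Injective (Cohom.hhMap A (c.mraiseHom (Ample.vMod (⟨{x}, hx⟩ : Closeds X)) s n 1) 1)) :
    ∃ b : c.sect n ⊤, x ∈ c.locus b := by
  haveI := SerreVanish.isNoetherian_of_proper (X := X) A
  let T : Closeds X := ⟨{x}, hx⟩
  let I := Scheme.IdealSheafData.vanishingIdeal T
  haveI : IsReduced I.subscheme := RedSub.isReduced_subscheme_vanishingIdeal T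
  have hrange : ∀ z, I.subschemeι z = x := fun z => by
    have hz : I.subschemeι z ∈ Set.range I.subschemeι := ⟨z, rfl⟩
    rw [Scheme.IdealSheafData.range_subschemeι] at hz
    simpa [I, T] using hz
  haveI := Euler.epi_toSubscheme I
  haveI : Mono (ClSub.idealModι I) := inferInstanceAs (Mono (kernel.ι (ClSub.toSubscheme I)))
  let S := ShortComplex.mk (ClSub.idealModι I) (ClSub.toSubscheme I) (kernel.condition _)
  have hS : S.ShortExact :=
    haveI : Mono S.f := ‹Mono (ClSub.idealModι I)›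
    haveI : Epi S.g := ‹Epi (ClSub.toSubscheme I)›
    { exact := ShortComplex.exact_of_f_is_kernel _ (kernelIsKernel _) }
  have hTn := twistSeq_shortExact c n hS
  have hTp := twistSeq_shortExact c (n + m * 1) hS
  haveI : Mono (twistSeq c (n + m * 1) S).f := hTp.mono_f
  -- multiplication by `s` factors through the ideal of the point
  have hzero : c.mraiseHom S.X₂ s n 1 ≫ (twistSeq c (n + m * 1) S).g = 0 := by
    show c.mraiseHom S.X₂ s n 1 ≫ c.mtwistMap S.g (n + m * 1) = 0
    rw [← mtwistMap_mraiseHom, show c.mraiseHom S.X₃ s n 1 = 0 from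
      mraiseHom_push_eq_zero c I.subschemeι _ s (fun z => by rw [hrange z]; exact hxs) n, comp_zero]
  let ψ := hTp.exact.lift _ hzero
  have hψ : c.mtwistMap S.f n ≫ ψ = c.mraiseHom S.X₁ s n 1 := by
    rw [← cancel_mono (twistSeq c (n + m * 1) S).f, Category.assoc, hTp.exact.lift_f]
    exact mtwistMap_mraiseHom c S.f s n 1
  have hsurj : Function.Surjective (Cohom.hhMap A (twistSeq c n S).g 0) := fun q => by
    refine (Cohom.exact₃ (A := A) hTn 0 q).1 ?_
    have h1 : Cohom.hhMap A (c.mtwistMap S.f n) (0 + 1) (Cohom.hhDelta A hTn 0 q) = 0 :=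
      (Cohom.exact₁ (A := A) hTn 0 _).2 ⟨q, rfl⟩
    refine hinj ?_
    rw [map_zero]
    show Cohom.hhMap A (c.mraiseHom S.X₁ s n 1) (0 + 1) _ = 0
    rw [← hψ, Euler.hhMap_comp, h1, map_zero]
  by_contra hcon
  push Not at hcon
  -- every section dies at the point
  have hkill : ∀ b : c.msect (Coh.structureModule X) n ⊤, c.msectMap S.g b = 0 := fun b => by
    refine c.msect_ext fun j => ?_
    show I.subschemeι.app (⊤ ⊓ c.D j) (b.1 j) = 0
    refine app_eq_zero_of_disjoint I.subschemeι _ fun z hz => hcon (c.toSect b) ?_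
    have hz' : I.subschemeι z ∈ c.D j ⊓ c.locus (c.toSect b) := by
      rw [inf_comm, c.locus_inf_D]
      exact hz
    rw [hrange z] at hz'
    exact hz'.2
  have hQ : ∀ q : c.msect (ClSub.quotMod I) n ⊤, q = 0 := fun q => by
    obtain ⟨w, hw⟩ := hsurj ((ProjCoh.H0top (c.modTwist (ClSub.quotMod I) n)).symm q)
    have h2 := congrArg (ProjCoh.H0top (c.modTwist (ClSub.quotMod I) n)) hw
    rw [AddEquiv.apply_symm_apply, Cohom.hhMap_apply] at h2
    rw [← show c.msectMap S.g (ProjCoh.H0top _ w) = q from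
      (ProjCoh.H0top_map ((QCoh.toAbFun X).map (c.mtwistMap S.g n)) w).symm.trans h2]
    exact hkill _
  obtain ⟨e⟩ := c.nonempty_push_modTwist I.subschemeι (Coh.structureModule I.subscheme) n
  obtain ⟨j, hj⟩ := c.exists_mem x
  obtain ⟨z, hz⟩ : x ∈ Set.range I.subschemeι := by
    rw [Scheme.IdealSheafData.range_subschemeι]
    simp [I, T]
  let j' : (c.comap I.subschemeι).ι := j
  have hV : (⊤ : I.subscheme.Opens) ≤ (c.comap I.subschemeι).D j' := fun v _ => by
    show I.subschemeι v ∈ c.D j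
    rw [hrange v]
    exact hj
  let t : (c.comap I.subschemeι).msect (Coh.structureModule I.subscheme) n ⊤ :=
    (c.comap I.subschemeι).mbase n j' hV (1 : Γ(I.subscheme, ⊤))
  have hinjₑ : Function.Injective (e.hom.app ⊤) :=
    (ConcreteCategory.bijective_of_isIso (e.hom.app ⊤)).1
  have ht : t = 0 := hinjₑ ((hQ (e.hom.app ⊤ t)).trans (map_zero (e.hom.app ⊤).hom).symm)
  have h1 := congrArg (fun a : (c.comap I.subschemeι).msect (Coh.structureModule I.subscheme) n ⊤ => a.1 j') ht
  simp only [t, Cocycle.mbase_self] at h1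
  haveI : Nonempty ↥((⊤ : I.subscheme.Opens) ⊓ (c.comap I.subschemeι).D j') := ⟨⟨z, trivial, hV trivial⟩⟩
  exact one_ne_zero (α := Γ(I.subscheme, ⊤ ⊓ (c.comap I.subschemeι).D j')) ((map_one (I.subscheme.presheaf.map
    (homOfLE inf_le_left).op).hom).symm.trans h1)

include A in
/-- All large powers are generated, if the modules supported on the zero locus of a section are eventually acyclic. -/
theorem eventually_isGloballyGenerated (s : c.sect 1 ⊤)
    (hsmall : ∀ P : X.Modules, Coh.IsCoh P → CohB1.support P ⊆ (c.locus s : Set X)ᶜ → EvAcyclic c P) :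
    ∃ N : ℕ, ∀ n, N ≤ n → Curv2.IsGloballyGenerated (c.twist n) := by
  classical
  haveI := SerreVanish.isNoetherian_of_proper (X := X) A
  have hpt : ∀ p : X, ∃ (a : ℕ) (O : X.Opens), p ∈ O ∧
      ∀ n, a ≤ n → ∀ y ∈ O, ∃ b : c.sect n ⊤, y ∈ c.locus b := by
    intro p
    obtain ⟨x, hxp, hx⟩ := (isClosed_closure (s := ({p} : Set X))).exists_closed_singleton
      (closure_nonempty_iff.2 (Set.singleton_nonempty p))
    have hsp : ∀ (U : X.Opens), x ∈ U → p ∈ U := fun U hU =>
      (specializes_iff_mem_closure.2 hxp).mem_open U.2 hU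
    by_cases hxs : x ∈ c.locus s
    · refine ⟨1, c.locus s, hsp _ hxs, fun n hn y hy => ?_⟩
      exact ⟨c.sectCast (one_mul n) (c.sectPow s n), by rw [c.locus_sectCast, c.locus_sectPow _ hn]; exact hy⟩
    · obtain ⟨n₀, hn₀⟩ := eventually_injective_mraise c A (SerreVanish.isCoh_vMod A (⟨{x}, hx⟩ : Closeds X)) s hsmall
      obtain ⟨b₁, hb₁⟩ := exists_sect_of_injective c A s hx hxs (hn₀ (n₀ + 1) (by omega))
      obtain ⟨b₂, hb₂⟩ := exists_sect_of_injective c A s hx hxs (hn₀ (n₀ + 2) (by omega))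
      refine ⟨(n₀ + 1) * (n₀ + 1), c.locus b₁ ⊓ c.locus b₂, ⟨hsp _ hb₁, hsp _ hb₂⟩, fun n hn y hy => ?_⟩
      obtain ⟨α, β, hαβ⟩ : ∃ α β, n = (n₀ + 1) * α + (n₀ + 2) * β := by
        have hr : n % (n₀ + 1) ≤ n₀ := Nat.lt_succ_iff.1 (Nat.mod_lt _ (Nat.succ_pos _))
        have hq : n₀ + 1 ≤ n / (n₀ + 1) := (Nat.le_div_iff_mul_le (Nat.succ_pos _)).2 hn
        obtain ⟨α, hα⟩ : ∃ α, n / (n₀ + 1) = α + n % (n₀ + 1) := ⟨n / (n₀ + 1) - n % (n₀ + 1), by omega⟩
        refine ⟨α, n % (n₀ + 1), ?_⟩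
        have h := Nat.mod_add_div n (n₀ + 1)
        rw [hα] at h
        conv_lhs => rw [← h]
        ring
      refine ⟨c.sectCast hαβ.symm (c.mul (c.sectPow b₁ α) (c.sectPow b₂ β)), ?_⟩
      rw [c.locus_sectCast, c.locus_mul]
      exact ⟨c.le_locus_sectPow _ _ hy.1, c.le_locus_sectPow _ _ hy.2⟩
  choose a O hO ha using hpt
  obtain ⟨t, ht⟩ := isCompact_univ.elim_finite_subcover (fun p : X => (O p : Set X))
    (fun p => (O p).isOpen) fun p _ => Set.mem_iUnion.2 ⟨p, hO p⟩
  refine ⟨t.sup a, fun n hn => c.isGloballyGenerated_of_generated fun y => ?_⟩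
  obtain ⟨p, hp, hy⟩ := Set.mem_iUnion₂.1 (ht (Set.mem_univ y))
  exact ha p n ((Finset.le_sup hp).trans hn) y hy

end GrothLib.HorizCart29
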