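import Groth.Agent.Lib.ExcP1.ElimApp
import Groth.Agent.Lib.ArSurf29.RelMinExists
import Mathlib.AlgebraicGeometry.ZariskisMainTheorem

/-!
# Horizontal divisors are finite over the base
-/

set_option autoImplicit false
set_option linter.all false
set_option backward.isDefEq.respectTransparency false

universe u

open CategoryTheory AlgebraicGeometry TopologicalSpace

noncomputable section

namespace GrothLib.HorizCart29

theorem finite_of_pairwise {T : Type*} [TopologicalSpace T] [NoetherianSpace T] [QuasiSober T] [T0Space T]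
    {F : Set T} (hF : IsClosed F) (h : ∀ a ∈ F, ∀ b ∈ F, a ⤳ b → a = b) : F.Finite := by
  obtain ⟨S, hS, hSirr, hScl, hcov⟩ := NoetherianSpace.exists_finite_set_isClosed_irreducible hF
  choose η hη using fun D : S => QuasiSober.sober (hScl D D.2) (hSirr D D.2)
  haveI := hS.to_subtype
  refine (Set.finite_range η).subset fun y hy => ?_
  obtain ⟨D, hD, hyD⟩ := (hcov ▸ hy : y ∈ ⋃₀ S)
  exact ⟨⟨D, hD⟩, h _ (hcov.ge (Set.mem_sUnion_of_mem (hη ⟨D, hD⟩).mem hD)) _ hy ((hη ⟨D, hD⟩).specializes hyD)⟩

theorem generic_notMem_range {X : Scheme.{u}} [IsIntegral X] {D : Scheme.{u}} (d : D ⟶ X) [IsClosedImmersion d]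
    (hD : _root_.BlowUp.IsEffCartierIdeal d.ker) : genericPoint X ∉ Set.range d := by
  intro h
  have hmem : genericPoint X ∈ (d.ker.support : Set X) := by
    rw [Scheme.Hom.support_ker]; exact subset_closure h
  obtain ⟨γ, hγ, hs⟩ := GrothLib.CartierDescent.exists_stalk_generator hD (genericPoint X)
  have hF : IsField (X.presheaf.stalk (genericPoint X)) := Field.toIsField X.functionField
  letI := hF.toField
  rcases Ideal.eq_bot_or_top (GrothLib.CartierDescent.stalkIdeal d.ker (genericPoint X)) with h2 | h2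
  · rw [hs, Ideal.span_singleton_eq_bot] at h2
    exact nonZeroDivisors.ne_zero hγ h2
  · exact (GrothLib.CartierDescent.stalkIdeal_eq_top_iff _ _).1 h2 hmem

variable {R : Type u} [CommRing R] [IsDedekindDomain R] (hR : ¬ IsField R)
  (X : Over (Spec (CommRingCat.of R))) [IsIntegral X.left] (hdim : topologicalKrullDim X.left ≤ 2) [IsProper X.hom]

include hR in
theorem not_isClosed_bot {s : Spec (CommRingCat.of R)} (h : s.asIdeal = ⊥) :
    ¬ IsClosed ({s} : Set (Spec (CommRingCat.of R))) := fun hc => by
  have hm : s.asIdeal.IsMaximal := (PrimeSpectrum.isClosed_singleton_iff_isMaximal s).1 hc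
  rw [h] at hm
  exact hR ((Ring.isField_iff_maximal_bot).2 hm)

include hR hdim in
theorem isFinite_of_horizontal {D : Scheme.{u}} (d : D ⟶ X.left) [IsClosedImmersion d]
    (hD : _root_.BlowUp.IsEffCartierIdeal d.ker)
    (hhor : ∀ p : D, ∃ q : D, q ⤳ p ∧ ((d ≫ X.hom).base q).asIdeal = ⊥) : IsFinite (d ≫ X.hom) := by
  haveI : IsLocallyNoetherian D := LocallyOfFiniteType.isLocallyNoetherian (d ≫ X.hom)
  haveI : CompactSpace D := QuasiCompact.compactSpace_of_compactSpace (d ≫ X.hom)
  haveI : IsNoetherian D := ⟨⟩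
  haveI : CompactSpace X.left := QuasiCompact.compactSpace_of_compactSpace X.hom
  haveI : IsLocallyNoetherian X.left := LocallyOfFiniteType.isLocallyNoetherian X.hom
  haveI : IsNoetherian X.left := ⟨⟩
  have hη := generic_notMem_range d hD
  have hne : ∀ q : D, genericPoint X.left ≠ d q := fun q e => hη ⟨q, e.symm⟩
  have hmax : ∀ s : Spec (CommRingCat.of R), s.asIdeal ≠ ⊥ → s.asIdeal.IsMaximal := fun s h =>
    Ideal.IsPrime.isMaximal s.isPrime h
  -- points over closed points are closed
  have hcl : ∀ p : D, ((d ≫ X.hom) p).asIdeal ≠ ⊥ → ∀ p', p ⤳ p' → p' = p := by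
    intro p hp p' hpp
    by_contra hpne
    obtain ⟨q, hq, hq0⟩ := hhor p
    have hqp : q ≠ p := fun e => hp (e ▸ hq0)
    exact GrothLib.ArSurf29.no_chain_four hdim (genericPoint_specializes (d q)) (hq.map d.continuous)
      (hpp.map d.continuous) (hne q) (fun e => hqp (d.isEmbedding.injective e))
      fun e => hpne (d.isEmbedding.injective e).symm
  -- distinct points over the generic point are not specializations
  have hbot : ∀ p p' : D, ((d ≫ X.hom) p').asIdeal = ⊥ → p ⤳ p' → p = p' := by
    intro p p' hp' hpp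
    by_contra hpne
    obtain ⟨c, hc, hcc⟩ := GrothLib.ArSurf29.exists_isClosed_specialization (d p')
    refine GrothLib.ArSurf29.no_chain_four hdim (genericPoint_specializes (d p)) (hpp.map d.continuous) hc
      (hne p) (fun e => hpne (d.isEmbedding.injective e)) fun e => not_isClosed_bot hR hp' ?_
    have h1 := X.hom.isClosedMap _ (e ▸ hcc : IsClosed ({d p'} : Set X.left))
    rw [Set.image_singleton] at h1
    exact h1
  haveI : LocallyQuasiFinite (d ≫ X.hom) := by
    refine LocallyQuasiFinite.of_finite_preimage_singleton _ fun s => ?_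
    by_cases hs : s.asIdeal = ⊥
    · obtain ⟨S, hS, hSirr, hScl, hcov⟩ := NoetherianSpace.exists_finite_set_isClosed_irreducible
        (isClosed_univ (X := D))
      choose η hη' using fun E : S => QuasiSober.sober (hScl E E.2) (hSirr E E.2)
      haveI := hS.to_subtype
      refine (Set.finite_range η).subset fun y hy => ?_
      obtain ⟨E, hE, hyE⟩ := (hcov ▸ Set.mem_univ y : y ∈ ⋃₀ S)
      exact ⟨⟨E, hE⟩, hbot _ _ (by rw [show (d ≫ X.hom) y = s from hy]; exact hs) ((hη' ⟨E, hE⟩).specializes hyE)⟩
    · haveI := hmax s hs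
      refine finite_of_pairwise (((PrimeSpectrum.isClosed_singleton_iff_isMaximal s).2 (hmax s hs)).preimage
        (d ≫ X.hom).continuous) fun a ha b hb hab => (hcl a ?_ b hab).symm
      rw [show (d ≫ X.hom) a = s from ha]
      exact hs
  exact IsFinite.of_isProper_of_locallyQuasiFinite _

end GrothLib.HorizCart29
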